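import Cfsg.Agent.H735.DPU.Eig

/-!
# S4247, row PSU: F2, F3 (helper735)
-/

set_option autoImplicit false

namespace Cfsg.Agent.H735.DPU

open Subgroup Cfsg Matrix Module Cfsg.Agent.H167.OP Cfsg.Agent.H170.HL Cfsg.Agent.H380.RV Cfsg.Agent.H553.RV
  Cfsg.Agent.H715.DPU
open Cfsg.Agent.ClassicalGeometry.PSUAutCount (gm gm_mul gm_one)
open Cfsg.Agent.H715.PDU (exists_frob pow_ne_zero_vec zpow_step IsOrd isOrd_of exists_eig_ne_one)

/-- Task F2: conjugates of `z i`. -/
theorem pow_of_conj {F : Type} [Field F] [Fintype F] {n q a t : ℕ} (hF : Fintype.card F = q ^ 2)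
    {H : Subgroup (GU n F q)} {z : Fin a → GU n F q} (hz : Fr q H t a z) (h : GU n F q) (i : Fin a) (j : ℕ)
    (hj : h * z i * h⁻¹ = z i ^ j) : ∃ k : ℕ, (j : ZMod t) = (-(q : ZMod t)) ^ k := by
  have htf := Fact.mk hz.ht
  have hzi := hz.fm.isZ i
  obtain ⟨w, hw, hw0, hev, hsp⟩ := spec hF hz.ht hz.ne hzi.1 hzi.2
  have h1 : Ev (z i) (w ^ j) := Ev.of_conj (h := h) (by rw [hj]; exact hev.pow j)
  have h2 : w ^ j ≠ 1 := by
    intro h0
    have h3 := (hw j).mp (by rw [zpow_natCast]; exact h0)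
    rw [Int.natCast_dvd_natCast] at h3
    obtain ⟨c, rfl⟩ := h3
    rw [pow_mul, hzi.1, one_pow] at hj
    have h4 : z i = 1 := by
      have h5 : h⁻¹ * (h * z i * h⁻¹) * h = h⁻¹ * 1 * h := by rw [hj]
      have h6 : h⁻¹ * (h * z i * h⁻¹) * h = z i := by group
      rw [← h6, h5]
      group
    have h5 : eU q t = 0 := by
      rw [← hzi.2, ← rank_Mg, h4, Mg_one, sub_self, Matrix.rank_zero]
    have h6 : 0 < eU q t := H556.HallOrd.order_pos hz.ht (q_ne hF hz.ht hz.ne)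
    omega
  obtain ⟨k, -, hk⟩ := hsp _ h2 h1
  refine ⟨k, ?_⟩
  rw [← zpow_natCast w j] at hk
  have h3 := (zpow_inj_mod hw hw0).mp hk
  push_cast at h3
  exact h3

/-- Task F3: semilinear maps commuting with `z i`. -/
theorem even_of_semi {F : Type} [Field F] [Fintype F] {n q a t : ℕ} (hF : Fintype.card F = q ^ 2)
    {H : Subgroup (GU n F q)} {z : Fin a → GU n F q} (hz : Fr q H t a z) (i : Fin a) (A : GU n F q) (τ : F ≃+* F)
    (hτ : ∀ x, τ x = x ^ q)
    (hA : ∀ v : Fin n → F, gm (z i) *ᵥ (gm A *ᵥ fun j => τ (v j)) = gm A *ᵥ fun j => τ ((gm (z i) *ᵥ v) j)) :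
    Even (eU q t) := by
  have htf := Fact.mk hz.ht
  have hzi := hz.fm.isZ i
  obtain ⟨w, hw, hw0, ⟨e, he, hew⟩, hsp⟩ := spec hF hz.ht hz.ne hzi.1 hzi.2
  obtain ⟨Fr, hFr⟩ := exists_frob hF
  -- the matrix identity
  have h1 : gm (z i) * gm A = gm A * (gm (z i)).map τ := by
    apply Matrix.ext_of_mulVec_single
    intro j
    have h2 := hA (Pi.single j 1)
    have h3 : (fun l => τ ((Pi.single j 1 : Fin n → F) l)) = Pi.single j 1 := by
      funext l
      by_cases hl : l = j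
      · subst hl
        rw [Pi.single_eq_same, map_one]
      · rw [Pi.single_eq_of_ne hl, map_zero]
    have h4 : (fun l => τ ((gm (z i) *ᵥ (Pi.single j 1 : Fin n → F)) l)) = (gm (z i)).map τ *ᵥ Pi.single j 1 := by
      funext l
      rw [Matrix.mulVec_single_one, Matrix.mulVec_single_one]
      rfl
    rw [h3, h4] at h2
    rw [← mulVec_mulVec, ← mulVec_mulVec, h2]
  have h2 : Mg (z i) * Mg A = Mg A * (Mg (z i)).map Fr := by
    have h3 := congrArg (fun M => M.map (algebraMap F (AlgebraicClosure F))) h1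
    beta_reduce at h3
    rw [Matrix.map_mul, Matrix.map_mul] at h3
    rw [Mg_def, Mg_def, h3]
    congr 1
    ext l m
    rw [Matrix.map_apply, Matrix.map_apply, Matrix.map_apply, Matrix.map_apply, hFr, hτ, map_pow]
  have h3 : (Mg (z i)).map Fr *ᵥ (fun l => e l ^ q) = w ^ q • fun l => e l ^ q := by
    funext l
    have h3 := RingHom.map_mulVec Fr (Mg (z i)) e l
    rw [hew, Pi.smul_apply, smul_eq_mul, map_mul, hFr, hFr] at h3
    have h4 : (Fr ∘ e) = fun i => e i ^ q := by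
      funext i
      exact hFr _
    rw [h4] at h3
    exact h3.symm
  have h4 : Ev (z i) (w ^ q) := by
    refine ⟨Mg A *ᵥ (fun l => e l ^ q), Mg_mulVec_ne _ (pow_ne_zero_vec he), ?_⟩
    rw [mulVec_mulVec, h2, ← mulVec_mulVec, h3, mulVec_smul]
  have hq : (q : ZMod t) ≠ 0 := fun h => q_ne hF hz.ht hz.ne (by rw [h, neg_zero])
  have h5 : w ^ q ≠ 1 := by
    intro h0
    have h6 := (hw q).mp (by rw [zpow_natCast]; exact h0)
    rw [Int.natCast_dvd_natCast, ← ZMod.natCast_eq_zero_iff] at h6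
    exact hq h6
  obtain ⟨k, -, hk⟩ := hsp _ h5 h4
  rw [← zpow_natCast w q] at hk
  have h6 := (zpow_inj_mod hw hw0).mp hk
  push_cast at h6
  -- `-1` is a power of `-q`
  by_contra hodd
  rw [Nat.not_even_iff_odd] at hodd
  have hpos : 0 < eU q t := H556.HallOrd.order_pos hz.ht (q_ne hF hz.ht hz.ne)
  have h7 : (-(q : ZMod t)) ^ (k + (eU q t - 1)) = -1 := by
    have h8 : (-(q : ZMod t)) ^ (k + (eU q t - 1)) * (-(q : ZMod t)) = -1 * (-(q : ZMod t)) := by
      rw [← pow_succ, add_assoc, Nat.sub_add_cancel hpos, pow_add, pow_orderOf_eq_one, mul_one, ← h6]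
      ring
    exact mul_right_cancel₀ (q_ne hF hz.ht hz.ne) h8
  have h8 := congrArg (fun x => x ^ eU q t) h7
  beta_reduce at h8
  rw [← pow_mul, mul_comm, pow_mul, pow_orderOf_eq_one, one_pow, hodd.neg_one_pow] at h8
  have h9 : (2 : ZMod t) = 0 := by linear_combination h8
  have h10 : t ∣ 2 := by
    rw [← ZMod.natCast_eq_zero_iff]
    exact_mod_cast h9
  have h11 := (Nat.prime_dvd_prime_iff_eq hz.ht Nat.prime_two).mp h10
  have h12 := hz.odd
  rw [h11] at h12
  exact absurd h12 (by decide)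

end Cfsg.Agent.H735.DPU
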