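import Cfsg.Agent.H735.DPU.Eig

/-!
# S4247, row PSU: the centraliser of a frame is a torus (helper735)
-/

set_option autoImplicit false

namespace Cfsg.Agent.H735.DPU

open Subgroup Cfsg Matrix Module Cfsg.Agent.H167.OP Cfsg.Agent.H170.HL Cfsg.Agent.H380.RV Cfsg.Agent.H553.RV
  Cfsg.Agent.H715.DPU
open Cfsg.Agent.ClassicalGeometry.PSUAutCount (gm gm_mul gm_one)
open Cfsg.Agent.H715.PDU (exists_frob pow_ne_zero_vec zpow_step IsOrd isOrd_of exists_eig_ne_one)

section diag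

variable {K : Type*} [Field K] {n : ℕ} {ι : Type*} (B : Basis ι K (Fin n → K))
  {Y : Matrix (Fin n) (Fin n) K} {μ : ι → K}

theorem diag_repr (h : ∀ i, Y *ᵥ B i = μ i • B i) (v : Fin n → K) (i : ι) :
    B.repr (Y *ᵥ v) i = μ i * B.repr v i := by
  classical
  have h1 : (B.coord i) ∘ₗ Matrix.toLin' Y = μ i • B.coord i := by
    refine B.ext fun j => ?_
    rw [LinearMap.comp_apply, Matrix.toLin'_apply, LinearMap.smul_apply, Basis.coord_apply, Basis.coord_apply, h,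
      map_smul, Finsupp.smul_apply, Basis.repr_self, smul_eq_mul, smul_eq_mul]
    by_cases hij : j = i
    · rw [hij]
    · rw [Finsupp.single_apply, if_neg hij, mul_zero, mul_zero]
  exact LinearMap.congr_fun h1 v

theorem line (h : ∀ i, Y *ᵥ B i = μ i • B i) {v : Fin n → K} {c : K} {i0 : ι} (hv : Y *ᵥ v = c • v)
    (hc : ∀ i, i ≠ i0 → μ i ≠ c) : v = B.repr v i0 • B i0 := by
  classical
  apply B.repr.injective
  ext i
  rw [map_smul, Finsupp.smul_apply, Basis.repr_self, Finsupp.single_apply, smul_eq_mul]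
  by_cases hi : i0 = i
  · rw [if_pos hi, hi, mul_one]
  · rw [if_neg hi, mul_zero]
    have h1 := diag_repr B h v i
    rw [hv, map_smul, Finsupp.smul_apply, smul_eq_mul] at h1
    have h2 : (μ i - c) * B.repr v i = 0 := by rw [sub_mul, ← h1, sub_self]
    rcases mul_eq_zero.mp h2 with h3 | h3
    · exact absurd (sub_eq_zero.mp h3) (hc i (Ne.symm hi))
    · exact h3

theorem ext_basis {G G' : Matrix (Fin n) (Fin n) K} (hG : ∀ i, G *ᵥ B i = G' *ᵥ B i) : G = G' := by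
  apply (Matrix.toLin' (R := K)).injective
  exact B.ext fun i => by rw [Matrix.toLin'_apply, Matrix.toLin'_apply, hG]

theorem exists_dot {f : Fin n → K} (hf : f ≠ 0) : ∃ i, f ⬝ᵥ B i ≠ 0 := by
  by_contra hcon
  push Not at hcon
  apply hf
  apply dotProduct_eq_zero
  intro w
  let φ : (Fin n → K) →ₗ[K] K :=
    { toFun := fun v => f ⬝ᵥ v
      map_add' := fun u v => dotProduct_add f u v
      map_smul' := fun c v => dotProduct_smul c f v }
  have h1 : φ = 0 := B.ext fun i => hcon i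
  exact LinearMap.congr_fun h1 w

end diag

variable {F : Type*} [Field F] {q n t : ℕ}

section
variable [Fintype F]

omit [Fintype F] in
theorem nu_inj {w : AlgebraicClosure F} (hw : IsOrd t w) (hw0 : w ≠ 0) {i j : ℕ} (hi : i < eU q t) (hj : j < eU q t)
    (h : w ^ ((-(q : ℤ)) ^ i) = w ^ ((-(q : ℤ)) ^ j)) : i = j := by
  have h1 := (zpow_inj_mod hw hw0).mp h
  push_cast at h1
  exact pow_injOn_Iio_orderOf (Set.mem_Iio.mpr hi) (Set.mem_Iio.mpr hj) h1

theorem nu_ne_one (hF : Fintype.card F = q ^ 2) (ht : t.Prime) (htF : (t : F) ≠ 0) {w : AlgebraicClosure F}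
    (hw : IsOrd t w) (i : ℕ) : w ^ ((-(q : ℤ)) ^ i) ≠ 1 := by
  have htf := Fact.mk ht
  intro h
  have h2 := (hw _).mp h
  have h3 : (((-(q : ℤ)) ^ i : ℤ) : ZMod t) = 0 := by rwa [ZMod.intCast_zmod_eq_zero_iff_dvd]
  push_cast at h3
  exact pow_ne_zero _ (q_ne hF ht htF) h3

theorem hdot (hF : Fintype.card F = q ^ 2) {g : GU n F q} {e e' : Fin n → AlgebraicClosure F}
    {c d : AlgebraicClosure F} (he : e ≠ 0) (hc : Mg g *ᵥ e = c • e) (hd : Mg g *ᵥ e' = d • e')
    (h0 : (fun x => e x ^ q) ⬝ᵥ e' ≠ 0) : d = (c ^ q)⁻¹ := by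
  have hc0 := eig_ne_zero he hc
  have h1 := dual hF hc0 hc
  have h2 : (fun x => e x ^ q) ⬝ᵥ (Mg g *ᵥ e') = ((Mg g)ᵀ *ᵥ (fun x => e x ^ q)) ⬝ᵥ e' := by
    rw [dotProduct_mulVec, ← mulVec_transpose]
  rw [hd, h1, dotProduct_smul, smul_dotProduct, smul_eq_mul, smul_eq_mul] at h2
  exact mul_right_cancel₀ h0 h2

end

/-- the basis of eigenvectors of a frame -/
structure BFr [Fintype F] {a d : ℕ} (z : Fin a → GU n F q) (w : Fin a → AlgebraicClosure F)
    (b : Fin a × Fin d → (Fin n → AlgebraicClosure F)) : Prop where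
  ne : ∀ x, b x ≠ 0
  eig : ∀ i k, Mg (z i) *ᵥ b (i, k) = (w i ^ ((-(q : ℤ)) ^ (k : ℕ))) • b (i, k)
  fix : ∀ i j k, i ≠ j → Mg (z i) *ᵥ b (j, k) = b (j, k)
  inj : ∀ i (k l : Fin d), w i ^ ((-(q : ℤ)) ^ (k : ℕ)) = w i ^ ((-(q : ℤ)) ^ (l : ℕ)) → k = l
  ne1 : ∀ i (k : ℕ), w i ^ ((-(q : ℤ)) ^ k) ≠ 1

section frame

variable [Fintype F] {a d : ℕ} {z : Fin a → GU n F q} {w : Fin a → AlgebraicClosure F}
  {b : Fin a × Fin d → (Fin n → AlgebraicClosure F)}

/-- the eigenvalue of `z i` on `b x` -/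
noncomputable def lam (q : ℕ) (w : Fin a → AlgebraicClosure F) (i : Fin a) (x : Fin a × Fin d) : AlgebraicClosure F :=
  if x.1 = i then w i ^ ((-(q : ℤ)) ^ (x.2 : ℕ)) else 1

theorem BFr.lam (h : BFr z w b) (i : Fin a) (x : Fin a × Fin d) : Mg (z i) *ᵥ b x = DPU.lam q w i x • b x := by
  unfold DPU.lam
  obtain ⟨j, k⟩ := x
  by_cases hij : j = i
  · subst hij
    rw [if_pos rfl]
    exact h.eig j k
  · rw [if_neg hij, one_smul]
    exact h.fix i j k (Ne.symm hij)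

theorem BFr.lam_ne (h : BFr z w b) {i : Fin a} {k : Fin d} {x : Fin a × Fin d} (hx : x ≠ (i, k)) :
    DPU.lam q w i x ≠ w i ^ ((-(q : ℤ)) ^ (k : ℕ)) := by
  unfold DPU.lam
  obtain ⟨j, l⟩ := x
  by_cases hij : j = i
  · subst hij
    rw [if_pos rfl]
    intro h1
    exact hx (Prod.ext rfl (h.inj _ _ _ h1))
  · rw [if_neg hij]
    exact (h.ne1 i k).symm

theorem BFr.li (h : BFr z w b) : LinearIndependent (AlgebraicClosure F) b := by
  classical
  rw [Fintype.linearIndependent_iff]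
  intro g hg
  have key : ∀ i : Fin a, ∑ k : Fin d, (g (i, k) * (w i ^ ((-(q : ℤ)) ^ (k : ℕ)) - 1)) • b (i, k) = 0 := by
    intro i
    have h1 := congrArg (fun v => (Mg (z i) - 1) *ᵥ v) hg
    beta_reduce at h1
    rw [mulVec_zero, Matrix.mulVec_sum] at h1
    have h2 : ∀ x, (Mg (z i) - 1) *ᵥ (g x • b x) = (g x * (DPU.lam q w i x - 1)) • b x := by
      intro x
      rw [mulVec_smul, sub_mulVec, one_mulVec, h.lam, mul_smul, sub_smul, one_smul]
    rw [Finset.sum_congr rfl (fun x _ => h2 x), Fintype.sum_prod_type, Finset.sum_eq_single i] at h1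
    · rw [← h1]
      refine Finset.sum_congr rfl fun k _ => ?_
      unfold DPU.lam
      rw [if_pos rfl]
    · intro j _ hj
      refine Finset.sum_eq_zero fun k _ => ?_
      unfold DPU.lam
      rw [if_neg hj, sub_self, mul_zero, zero_smul]
    · intro hi
      exact absurd (Finset.mem_univ i) hi
  rintro ⟨i, k⟩
  have hli : LinearIndependent (AlgebraicClosure F) fun k : Fin d => b (i, k) := by
    refine Module.End.eigenvectors_linearIndependent' (Matrix.toLin' (Mg (z i)))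
      (fun k : Fin d => w i ^ ((-(q : ℤ)) ^ (k : ℕ))) (fun k l hkl => h.inj i k l hkl) _ fun k => ?_
    rw [Module.End.hasEigenvector_iff, Module.End.mem_eigenspace_iff, Matrix.toLin'_apply]
    exact ⟨h.eig i k, h.ne _⟩
  have h1 := (Fintype.linearIndependent_iff.mp hli) _ (key i) k
  rcases mul_eq_zero.mp h1 with h2 | h2
  · exact h2
  · exact absurd (sub_eq_zero.mp h2) (h.ne1 i k)

/-- the basis -/
noncomputable def BFr.bas (h : BFr z w b) (hn : n = a * d) (hpos : 0 < a * d) :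
    Basis (Fin a × Fin d) (AlgebraicClosure F) (Fin n → AlgebraicClosure F) := by
  haveI : Nonempty (Fin a × Fin d) := by
    have ha : 0 < a := Nat.pos_of_mul_pos_right hpos
    have hd : 0 < d := Nat.pos_of_mul_pos_left hpos
    exact ⟨(⟨0, ha⟩, ⟨0, hd⟩)⟩
  exact basisOfLinearIndependentOfCardEqFinrank h.li (by
    rw [Fintype.card_prod, Fintype.card_fin, Fintype.card_fin, finrank_fin_fun, hn])

theorem BFr.bas_apply (h : BFr z w b) (hn : n = a * d) (hpos : 0 < a * d) (x : Fin a × Fin d) :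
    h.bas hn hpos x = b x := by
  have : Nonempty (Fin a × Fin d) := ⟨x⟩
  unfold BFr.bas
  rw [coe_basisOfLinearIndependentOfCardEqFinrank]

/-- elements of the centraliser are diagonal -/
theorem BFr.diag (h : BFr z w b) (hn : n = a * d) (hpos : 0 < a * d) {g : GU n F q} (hg : ∀ i, g * z i = z i * g)
    (x : Fin a × Fin d) : ∃ c : AlgebraicClosure F, Mg g *ᵥ b x = c • b x := by
  obtain ⟨i, k⟩ := x
  have h1 : Mg (z i) *ᵥ (Mg g *ᵥ b (i, k)) = (w i ^ ((-(q : ℤ)) ^ (k : ℕ))) • (Mg g *ᵥ b (i, k)) := by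
    rw [mulVec_mulVec, ← Mg_mul, ← hg, Mg_mul, ← mulVec_mulVec, h.eig, mulVec_smul]
  have h2 := line (h.bas hn hpos) (Y := Mg (z i)) (μ := DPU.lam q w i) (fun x => by rw [h.bas_apply]; exact h.lam i x) h1
    (i0 := (i, k)) (fun x hx => h.lam_ne hx)
  rw [h.bas_apply] at h2
  exact ⟨_, h2⟩

theorem BFr.step (hF : Fintype.card F = q ^ 2) (h : BFr z w b) (hn : n = a * d) (hpos : 0 < a * d) (i : Fin a)
    (k : Fin d) : ∃ l : Fin d, w i ^ ((-(q : ℤ)) ^ (l : ℕ)) = w i ^ ((-(q : ℤ)) ^ ((k : ℕ) + 1)) ∧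
      ∀ (g : GU n F q) (c c' : AlgebraicClosure F), Mg g *ᵥ b (i, k) = c • b (i, k) →
        Mg g *ᵥ b (i, l) = c' • b (i, l) → c' = (c ^ q)⁻¹ := by
  obtain ⟨⟨j, l⟩, hjl⟩ := exists_dot (h.bas hn hpos) (pow_ne_zero_vec (q := q) (h.ne (i, k)))
  rw [h.bas_apply] at hjl
  have h1 := hdot hF (h.ne (i, k)) (h.eig i k) (h.lam i (j, l)) hjl
  rw [zpow_step] at h1
  have hij : j = i := by
    by_contra hij
    unfold DPU.lam at h1
    rw [if_neg hij] at h1
    exact h.ne1 i _ h1.symm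
  subst hij
  unfold DPU.lam at h1
  rw [if_pos rfl] at h1
  exact ⟨l, h1, fun g c c' hc hc' => hdot hF (h.ne (j, k)) hc hc' hjl⟩

theorem BFr.iter (hF : Fintype.card F = q ^ 2) (h : BFr z w b) (hn : n = a * d) (hpos : 0 < a * d) (hd : 0 < d)
    (i : Fin a) (m : ℕ) : ∃ l : Fin d, w i ^ ((-(q : ℤ)) ^ (l : ℕ)) = w i ^ ((-(q : ℤ)) ^ m) ∧
      ∀ (g : GU n F q), (∀ i, g * z i = z i * g) → ∀ (c c' : AlgebraicClosure F),
        Mg g *ᵥ b (i, ⟨0, hd⟩) = c • b (i, ⟨0, hd⟩) → Mg g *ᵥ b (i, l) = c' • b (i, l) → c' = c ^ ((-(q : ℤ)) ^ m) := by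
  induction m with
  | zero =>
    refine ⟨⟨0, hd⟩, rfl, fun g _ c c' hc hc' => ?_⟩
    rw [pow_zero, zpow_one]
    have h1 : (c' - c) • b (i, ⟨0, hd⟩) = 0 := by rw [sub_smul, ← hc, ← hc', sub_self]
    rcases smul_eq_zero.mp h1 with h2 | h2
    · exact sub_eq_zero.mp h2
    · exact absurd h2 (h.ne _)
  | succ m ih =>
    obtain ⟨l, hl, ih⟩ := ih
    obtain ⟨l', hl', hs⟩ := h.step hF hn hpos i l
    refine ⟨l', ?_, fun g hg c c' hc hc' => ?_⟩
    · rw [hl', pow_succ, _root_.zpow_mul, hl, ← _root_.zpow_mul, ← pow_succ]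
    · obtain ⟨c1, hc1⟩ := h.diag hn hpos hg (i, l)
      rw [hs g c1 c' hc1 hc', ih g hg c c1 hc hc1, zpow_step]

end frame

/-! ### the theorem -/

section main

variable {F : Type} [Field F] [Fintype F] {n q a t : ℕ}

theorem exists_BFr (hF : Fintype.card F = q ^ 2) {H : Subgroup (GU n F q)} {z : Fin a → GU n F q} (hz : Fr q H t a z) :
    ∃ (w : Fin a → AlgebraicClosure F) (b : Fin a × Fin (eU q t) → (Fin n → AlgebraicClosure F)), BFr z w b := by
  have hsp := fun i => spec hF hz.ht hz.ne (hz.fm.isZ i).1 (hz.fm.isZ i).2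
  choose w hw hw0 hev _ using hsp
  have hb : ∀ x : Fin a × Fin (eU q t), ∃ e : Fin n → AlgebraicClosure F, e ≠ 0 ∧
      Mg (z x.1) *ᵥ e = (w x.1 ^ ((-(q : ℤ)) ^ (x.2 : ℕ))) • e := fun x => ev_iter hF (hev x.1) x.2
  choose b hb0 hb using hb
  have hne1 : ∀ i (k : ℕ), w i ^ ((-(q : ℤ)) ^ k) ≠ 1 := fun i k => nu_ne_one hF hz.ht hz.ne (hw i) k
  refine ⟨w, b, hb0, fun i k => hb (i, k), fun i j k hij => ?_, fun i k l hkl =>
    Fin.ext (nu_inj (hw i) (hw0 i) k.2 l.2 hkl), hne1⟩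
  -- `z i` is trivial on the range of `z j - 1`
  have h1 : gm (z i) * (gm (z j) - 1) = gm (z j) - 1 := by
    apply Matrix.ext_of_mulVec_single
    intro x
    have h2 := hz.fm.ind i j hij (Pi.single x 1)
    rw [← mulVec_mulVec, sub_mulVec, one_mulVec]
    exact h2
  have h2 : Mg (z i) * (Mg (z j) - 1) = Mg (z j) - 1 := by
    have h3 := congrArg (fun M => M.map (algebraMap F (AlgebraicClosure F))) h1
    beta_reduce at h3
    rw [Matrix.map_mul, Matrix.map_sub _ (map_sub _), Matrix.map_one _ (map_zero _) (map_one _)] at h3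
    exact h3
  have hc : w j ^ ((-(q : ℤ)) ^ (k : ℕ)) - 1 ≠ 0 := sub_ne_zero.mpr (hne1 j k)
  have h3 : b (j, k) = (w j ^ ((-(q : ℤ)) ^ (k : ℕ)) - 1)⁻¹ • ((Mg (z j) - 1) *ᵥ b (j, k)) := by
    rw [sub_mulVec, one_mulVec, hb (j, k)]
    have h4 : (w j ^ ((-(q : ℤ)) ^ (k : ℕ))) • b (j, k) - b (j, k) = (w j ^ ((-(q : ℤ)) ^ (k : ℕ)) - 1) • b (j, k) := by
      rw [sub_smul, one_smul]
    rw [h4, smul_smul, inv_mul_cancel₀ hc, one_smul]
  rw [h3, mulVec_smul, mulVec_mulVec, h2]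

theorem zpow_tU {K : Type*} [Field K] {c : K} (hc0 : c ≠ 0) {d : ℕ} (h : c = c ^ ((-(q : ℤ)) ^ d)) (hq : 1 ≤ q) :
    c ^ tU q d = 1 := by
  have h1 : c ^ ((-(q : ℤ)) ^ d - 1) = 1 := by
    rw [zpow_sub₀ hc0, zpow_one, ← h, div_self hc0]
  unfold tU
  split_ifs with he
  · rw [he.neg_pow] at h1
    have h2 : ((q ^ d - 1 : ℕ) : ℤ) = (q : ℤ) ^ d - 1 := by
      rw [Nat.cast_sub (Nat.one_le_pow _ _ hq)]
      push_cast
      ring
    rw [← zpow_natCast, h2, h1]
  · rw [Nat.not_even_iff_odd] at he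
    rw [he.neg_pow] at h1
    have h2 : ((q ^ d + 1 : ℕ) : ℤ) = -(-(q : ℤ) ^ d - 1) := by
      push_cast
      ring
    rw [← zpow_natCast, h2, _root_.zpow_neg, h1, inv_one]

/-- Task F: the torus. -/
theorem cent_Cz (hF : Fintype.card F = q ^ 2) {H : Subgroup (GU n F q)} {z : Fin a → GU n F q} (hz : Fr q H t a z)
    (h0 : n = a * eU q t) :
    (∀ x ∈ Cz z, ∀ y ∈ Cz z, x * y = y * x) ∧ Nat.card (Cz z) ∣ tU q (eU q t) ^ a := by
  classical
  have hd : 0 < eU q t := H556.HallOrd.order_pos hz.ht (q_ne hF hz.ht hz.ne)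
  obtain ⟨w, b, h⟩ := exists_BFr hF hz
  have hq : 2 ≤ q := by
    by_contra hcon
    have h1 : 1 < Fintype.card F := Fintype.one_lt_card
    rw [hF] at h1
    interval_cases q <;> omega
  rcases Nat.eq_zero_or_pos a with ha | ha
  · subst ha
    rw [zero_mul] at h0
    subst h0
    have hs : Subsingleton (GU 0 F q) := ⟨fun x y => gm_injective (Subsingleton.elim _ _)⟩
    refine ⟨fun x _ y _ => Subsingleton.elim _ _, ?_⟩
    rw [pow_zero]
    have : Subsingleton (Cz z) := ⟨fun x y => Subtype.ext (Subsingleton.elim _ _)⟩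
    rw [Nat.card_unique]
  have hpos : 0 < a * eU q t := Nat.mul_pos ha hd
  have hcz : ∀ g ∈ Cz z, ∀ i, g * z i = z i * g := fun g hg i =>
    ((Subgroup.mem_centralizer_iff.mp hg) _ ⟨i, rfl⟩).symm
  have hdiag : ∀ (g : Cz z) (i : Fin a), ∃ c : AlgebraicClosure F, Mg (g : GU n F q) *ᵥ b (i, ⟨0, hd⟩) = c • b (i, ⟨0, hd⟩) :=
    fun g i => h.diag h0 hpos (hcz g g.2) _
  choose χ hχ using hdiag
  have hχ0 : ∀ g i, χ g i ≠ 0 := fun g i => eig_ne_zero (h.ne _) (hχ g i)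
  have huniq : ∀ {v : Fin n → AlgebraicClosure F} {c c' : AlgebraicClosure F}, v ≠ 0 → c • v = c' • v → c = c' := by
    intro v c c' hv hcc
    have h1 : (c - c') • v = 0 := by rw [sub_smul, hcc, sub_self]
    rcases smul_eq_zero.mp h1 with h2 | h2
    · exact sub_eq_zero.mp h2
    · exact absurd h2 hv
  have hN : 0 < tU q (eU q t) := by
    unfold tU
    split_ifs
    · have h1 : 2 ^ 1 ≤ q ^ eU q t := (Nat.pow_le_pow_right (by norm_num) hd).trans (Nat.pow_le_pow_left hq _)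
      omega
    · exact Nat.succ_pos _
  have : NeZero (tU q (eU q t)) := ⟨hN.ne'⟩
  have hroot : ∀ g i, χ g i ^ tU q (eU q t) = 1 := by
    intro g i
    refine zpow_tU (hχ0 g i) ?_ (by omega)
    obtain ⟨l, hl, hit⟩ := h.iter hF h0 hpos hd i (eU q t)
    -- `l = 0`
    have hl0 : l = ⟨0, hd⟩ := by
      apply h.inj i
      rw [hl]
      obtain ⟨w', hw', hw0', -, -⟩ := spec hF hz.ht hz.ne (hz.fm.isZ i).1 (hz.fm.isZ i).2
      have hwi : IsOrd t (w i) := by
        have h1 : Ev (z i) (w i) := ⟨b (i, ⟨0, hd⟩), h.ne _, by simpa using h.eig i ⟨0, hd⟩⟩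
        exact isOrd_of hz.ht (by simpa using h.ne1 i 0) (h1.pow_eq_one (hz.fm.isZ i).1)
      have hwi0 : w i ≠ 0 := by
        intro h1
        have h2 := (hwi t).mpr dvd_rfl
        rw [h1, _root_.zero_zpow (t : ℤ) (by exact_mod_cast hz.ht.ne_zero)] at h2
        exact zero_ne_one h2
      rw [zpow_inj_mod hwi hwi0]
      push_cast
      rw [pow_orderOf_eq_one, pow_zero]
    rw [hl0] at hit
    exact hit g (hcz g g.2) (χ g i) (χ g i) (hχ g i) (hχ g i)
  -- the homomorphism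
  let φ : Cz z →* (Fin a → rootsOfUnity (tU q (eU q t)) (AlgebraicClosure F)) :=
    { toFun := fun g i => ⟨Units.mk0 (χ g i) (hχ0 g i), by
        rw [mem_rootsOfUnity]
        ext
        rw [Units.val_pow_eq_pow_val, Units.val_mk0, hroot, Units.val_one]⟩
      map_one' := by
        funext i
        ext
        show χ 1 i = 1
        apply huniq (h.ne (i, ⟨0, hd⟩))
        rw [← hχ 1 i, one_smul]
        show Mg (1 : GU n F q) *ᵥ _ = _
        rw [Mg_one, one_mulVec]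
      map_mul' := by
        intro g g'
        funext i
        ext
        show χ (g * g') i = χ g i * χ g' i
        apply huniq (h.ne (i, ⟨0, hd⟩))
        rw [← hχ (g * g') i]
        show Mg ((g : GU n F q) * (g' : GU n F q)) *ᵥ _ = _
        rw [Mg_mul, ← mulVec_mulVec, hχ g' i, mulVec_smul, hχ g i, smul_smul, mul_comm] }
  have hφ : Function.Injective φ := by
    intro g g' hgg
    have h1 : ∀ i, χ g i = χ g' i := by
      intro i
      have h2 := congrFun hgg i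
      exact congrArg (fun u : rootsOfUnity (tU q (eU q t)) (AlgebraicClosure F) => ((u : (AlgebraicClosure F)ˣ) : AlgebraicClosure F)) h2
    apply Subtype.ext
    apply Mg_injective
    apply ext_basis (h.bas h0 hpos)
    rintro ⟨i, k⟩
    rw [h.bas_apply]
    obtain ⟨l, hl, hit⟩ := h.iter hF h0 hpos hd i k
    have hlk : l = k := h.inj i _ _ hl
    subst hlk
    obtain ⟨c, hc⟩ := h.diag h0 hpos (hcz g g.2) (i, l)
    obtain ⟨c', hc'⟩ := h.diag h0 hpos (hcz g' g'.2) (i, l)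
    rw [hc, hc', hit g (hcz g g.2) _ _ (hχ g i) hc, hit g' (hcz g' g'.2) _ _ (hχ g' i) hc', h1]
  refine ⟨fun x hx y hy => ?_, ?_⟩
  · have h1 : (⟨x, hx⟩ : Cz z) * ⟨y, hy⟩ = ⟨y, hy⟩ * ⟨x, hx⟩ := hφ (by rw [map_mul, map_mul, mul_comm])
    exact congrArg Subtype.val h1
  · refine (Subgroup.card_dvd_of_injective φ hφ).trans ?_
    rw [Nat.card_fun, Nat.card_eq_fintype_card (α := Fin a), Fintype.card_fin]
    apply pow_dvd_pow_of_dvd
    rw [← IsCyclic.exponent_eq_card]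
    apply Monoid.exponent_dvd_of_forall_pow_eq_one
    intro u
    ext
    have h1 := u.2
    rw [mem_rootsOfUnity] at h1
    exact congrArg Units.val h1

end main

end Cfsg.Agent.H735.DPU
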