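import Cfsg.Agent.H715.DPU.Def
import Cfsg.Agent.H715.PDU.Cent
import Cfsg.Agent.H953.Rank

/-!
# S4247, row PSU: eigenvalues of the elements of a frame (helper735)

`Mg g` : the matrix of `g` over the algebraic closure. `spec` : if `z ^ t = 1` and `rk z` is the order `d` of `-q` modulo
`t`, then the eigenvalues `≠ 1` of `z` are `w ^ ((-q) ^ k)`.
-/

set_option autoImplicit false

namespace Cfsg.Agent.H735.DPU

open Subgroup Cfsg Matrix Module Cfsg.Agent.H167.OP Cfsg.Agent.H170.HL Cfsg.Agent.H380.RV Cfsg.Agent.H553.RV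
  Cfsg.Agent.H715.DPU
open Cfsg.Agent.ClassicalGeometry.PSUAutCount (gm gm_mul gm_one)
open Cfsg.Agent.H715.PDU (exists_frob pow_ne_zero_vec zpow_step IsOrd isOrd_of exists_eig_ne_one)

variable {F : Type*} [Field F] {q n t : ℕ}

/-- the matrix over the algebraic closure -/
noncomputable def Mg (g : GU n F q) : Matrix (Fin n) (Fin n) (AlgebraicClosure F) :=
  (gm g).map (algebraMap F (AlgebraicClosure F))

theorem Mg_def (g : GU n F q) : Mg g = (gm g).map (algebraMap F (AlgebraicClosure F)) := rfl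

theorem Mg_mul (g h : GU n F q) : Mg (g * h) = Mg g * Mg h := by
  rw [Mg_def, gm_mul, Matrix.map_mul]
  rfl

theorem Mg_one : Mg (1 : GU n F q) = 1 := by
  rw [Mg_def, gm_one]
  exact Matrix.map_one _ (map_zero _) (map_one _)

theorem Mg_pow (g : GU n F q) (j : ℕ) : Mg (g ^ j) = Mg g ^ j := by
  induction j with
  | zero => rw [pow_zero, pow_zero, Mg_one]
  | succ j ih => rw [pow_succ, pow_succ, Mg_mul, ih]

theorem gm_injective : Function.Injective (gm : GU n F q → _) := fun _ _ h =>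
  Subtype.ext (Units.ext h)

theorem Mg_injective : Function.Injective (Mg : GU n F q → _) := by
  intro g h hgh
  exact gm_injective (Matrix.map_injective (algebraMap F (AlgebraicClosure F)).injective hgh)

theorem Mg_inv_mulVec (g : GU n F q) (e : Fin n → AlgebraicClosure F) : Mg g⁻¹ *ᵥ (Mg g *ᵥ e) = e := by
  rw [mulVec_mulVec, ← Mg_mul, inv_mul_cancel, Mg_one, one_mulVec]

theorem Mg_mulVec_inv (g : GU n F q) (e : Fin n → AlgebraicClosure F) : Mg g *ᵥ (Mg g⁻¹ *ᵥ e) = e := by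
  rw [mulVec_mulVec, ← Mg_mul, mul_inv_cancel, Mg_one, one_mulVec]

theorem Mg_mulVec_ne (g : GU n F q) {e : Fin n → AlgebraicClosure F} (he : e ≠ 0) : Mg g *ᵥ e ≠ 0 := by
  intro h
  apply he
  rw [← Mg_inv_mulVec g e, h, mulVec_zero]

theorem eig_ne_zero {g : GU n F q} {e : Fin n → AlgebraicClosure F} (he : e ≠ 0) {c : AlgebraicClosure F}
    (h : Mg g *ᵥ e = c • e) : c ≠ 0 := by
  rintro rfl
  rw [zero_smul] at h
  exact Mg_mulVec_ne g he h

theorem pow_mulVec {g : GU n F q} {e : Fin n → AlgebraicClosure F} {c : AlgebraicClosure F}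
    (h : Mg g *ᵥ e = c • e) (i : ℕ) : Mg g ^ i *ᵥ e = c ^ i • e := by
  induction i with
  | zero => rw [pow_zero, pow_zero, one_mulVec, one_smul]
  | succ i ih => rw [pow_succ, ← mulVec_mulVec, h, mulVec_smul, ih, smul_smul, pow_succ']

/-- an eigenvalue of `g` -/
def Ev (g : GU n F q) (c : AlgebraicClosure F) : Prop := ∃ e : Fin n → AlgebraicClosure F, e ≠ 0 ∧ Mg g *ᵥ e = c • e

theorem Ev.pow {g : GU n F q} {c : AlgebraicClosure F} (h : Ev g c) (i : ℕ) : Ev (g ^ i) (c ^ i) := by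
  obtain ⟨e, he, h1⟩ := h
  exact ⟨e, he, by rw [Mg_pow, pow_mulVec h1]⟩

theorem Ev.of_conj {g h : GU n F q} {c : AlgebraicClosure F} (hc : Ev (h * g * h⁻¹) c) : Ev g c := by
  obtain ⟨e, he, h1⟩ := hc
  refine ⟨Mg h⁻¹ *ᵥ e, Mg_mulVec_ne _ he, ?_⟩
  have h2 : Mg g = Mg h⁻¹ * Mg (h * g * h⁻¹) * Mg h := by
    rw [← Mg_mul, ← Mg_mul]
    congr 1
    group
  rw [h2, ← mulVec_mulVec, ← mulVec_mulVec, Mg_mulVec_inv, h1, mulVec_smul]

theorem Ev.pow_eq_one {g : GU n F q} {c : AlgebraicClosure F} (h : Ev g c) {i : ℕ} (hg : g ^ i = 1) : c ^ i = 1 := by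
  obtain ⟨e, he, h1⟩ := h.pow i
  rw [hg, Mg_one, one_mulVec] at h1
  have h2 : (1 - c ^ i) • e = 0 := by rw [sub_smul, one_smul, ← h1, sub_self]
  rcases smul_eq_zero.1 h2 with h3 | h3
  · exact (sub_eq_zero.1 h3).symm
  · exact absurd h3 he

variable [Fintype F]

/-- **Duality.** -/
theorem dual (hF : Fintype.card F = q ^ 2) {g : GU n F q} {e : Fin n → AlgebraicClosure F}
    {c : AlgebraicClosure F} (hc : c ≠ 0) (h : Mg g *ᵥ e = c • e) :
    (Mg g)ᵀ *ᵥ (fun i => e i ^ q) = (c ^ q)⁻¹ • fun i => e i ^ q := by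
  obtain ⟨Fr, hFr⟩ := exists_frob hF
  have h1 : (Mg g)ᵀ * (Mg g).map Fr = 1 := by
    have h2 := (Cfsg.Agent.LieClassical.GUOrder.mul_map_eq_one_iff hF (gm g)).1 (fun u v => g.2 u v)
    have h3 := congrArg (fun M => M.map (algebraMap F (AlgebraicClosure F))) h2
    beta_reduce at h3
    rw [Matrix.map_mul, Matrix.map_one _ (map_zero _) (map_one _)] at h3
    rw [← h3, Mg_def]
    congr 1
    ext i j
    rw [Matrix.map_apply, Matrix.map_apply, Matrix.map_apply, Matrix.map_apply, hFr, ← map_pow]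
    rfl
  have h2 : (Mg g).map Fr *ᵥ (fun i => e i ^ q) = c ^ q • fun i => e i ^ q := by
    funext i
    have h3 := RingHom.map_mulVec Fr (Mg g) e i
    rw [h, Pi.smul_apply, smul_eq_mul, map_mul, hFr, hFr] at h3
    have h4 : (Fr ∘ e) = fun i => e i ^ q := by
      funext i
      exact hFr _
    rw [h4] at h3
    exact h3.symm
  have h3 : (Mg g)ᵀ *ᵥ ((Mg g).map Fr *ᵥ (fun i => e i ^ q)) = fun i => e i ^ q := by
    rw [mulVec_mulVec, h1, one_mulVec]
  rw [h2, mulVec_smul] at h3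
  have hcq : c ^ q ≠ 0 := pow_ne_zero _ hc
  have h4 := congrArg (fun v => (c ^ q)⁻¹ • v) h3
  beta_reduce at h4
  rw [smul_smul, inv_mul_cancel₀ hcq, one_smul] at h4
  exact h4

/-- the eigenvalues are closed under `θ ↦ θ ^ (-q)` -/
theorem ev_step (hF : Fintype.card F = q ^ 2) {g : GU n F q} {θ : AlgebraicClosure F} (h : Ev g θ) :
    Ev g (θ ^ q)⁻¹ := by
  obtain ⟨e, he, heθ⟩ := h
  have hθ := eig_ne_zero he heθ
  have h1 := dual hF hθ heθ
  have h2 : ∃ v : Fin n → AlgebraicClosure F, v ≠ 0 ∧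
      ((Mg g)ᵀ - (θ ^ q)⁻¹ • (1 : Matrix (Fin n) (Fin n) (AlgebraicClosure F))) *ᵥ v = 0 := by
    refine ⟨fun i => e i ^ q, pow_ne_zero_vec he, ?_⟩
    rw [sub_mulVec, h1, smul_mulVec, one_mulVec, sub_self]
  rw [Matrix.exists_mulVec_eq_zero_iff] at h2
  have h3 : (Mg g - (θ ^ q)⁻¹ • (1 : Matrix (Fin n) (Fin n) (AlgebraicClosure F))).det = 0 := by
    rw [← det_transpose, transpose_sub, transpose_smul, transpose_one]
    exact h2
  rw [← Matrix.exists_mulVec_eq_zero_iff] at h3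
  obtain ⟨v, hv, hv1⟩ := h3
  rw [sub_mulVec, smul_mulVec, one_mulVec, sub_eq_zero] at hv1
  exact ⟨v, hv, hv1⟩

theorem ev_iter (hF : Fintype.card F = q ^ 2) {g : GU n F q} {θ : AlgebraicClosure F} (h : Ev g θ) (m : ℕ) :
    Ev g (θ ^ ((-(q : ℤ)) ^ m)) := by
  induction m with
  | zero => simpa using h
  | succ m ih =>
    have h1 := ev_step hF ih
    rwa [zpow_step] at h1

omit [Fintype F] in
theorem rk_eq (z : GU n F q) : rk (rU n F q) z = (gm z - 1).rank := by
  have h : rU n F q z - 1 = Matrix.mulVecLin (gm z - 1) := by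
    apply LinearMap.ext
    intro v
    rw [Matrix.mulVecLin_apply, sub_mulVec, one_mulVec]
    rfl
  rw [rk, h]
  rfl

omit [Fintype F] in
theorem rank_Mg (z : GU n F q) : (Mg z - 1).rank = rk (rU n F q) z := by
  rw [rk_eq, ← H953.rank_map (algebraMap F (AlgebraicClosure F)) (gm z - 1), Mg_def]
  congr 1
  rw [Matrix.map_sub _ (map_sub _), Matrix.map_one _ (map_zero _) (map_one _)]

omit [Fintype F] in
/-- eigenvectors for distinct eigenvalues `≠ 1` lie in the support -/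
theorem card_le_rk {ι : Type*} [Fintype ι] {z : GU n F q} {μ : ι → AlgebraicClosure F} (hμ : Function.Injective μ)
    (h1 : ∀ i, μ i ≠ 1) (hev : ∀ i, Ev z (μ i)) : Fintype.card ι ≤ rk (rU n F q) z := by
  choose b hb0 hb using hev
  have hli : LinearIndependent (AlgebraicClosure F) b := by
    refine Module.End.eigenvectors_linearIndependent' (Matrix.toLin' (Mg z)) μ hμ b fun i => ?_
    rw [Module.End.hasEigenvector_iff, Module.End.mem_eigenspace_iff, Matrix.toLin'_apply]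
    exact ⟨hb i, hb0 i⟩
  rw [← rank_Mg, Matrix.rank, ← finrank_span_eq_card hli]
  apply Submodule.finrank_mono
  rw [Submodule.span_le]
  rintro _ ⟨i, rfl⟩
  refine ⟨(μ i - 1)⁻¹ • b i, ?_⟩
  have h2 : μ i - 1 ≠ 0 := sub_ne_zero.2 (h1 i)
  have h3 : μ i • b i - b i = (μ i - 1) • b i := by rw [sub_smul, one_smul]
  rw [Matrix.mulVecLin_apply, mulVec_smul, sub_mulVec, one_mulVec, hb, h3, smul_smul, inv_mul_cancel₀ h2, one_smul]

omit [Fintype F] in
/-- congruence of exponents -/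
theorem zpow_inj_mod {w : AlgebraicClosure F} (hw : IsOrd t w) (hw0 : w ≠ 0) {a b : ℤ} :
    w ^ a = w ^ b ↔ (a : ZMod t) = b := by
  rw [ZMod.intCast_eq_intCast_iff_dvd_sub, ← hw, zpow_sub₀ hw0, div_eq_one_iff_eq (zpow_ne_zero _ hw0), eq_comm]

/-- **The spectrum.** -/
theorem spec (hF : Fintype.card F = q ^ 2) {z : GU n F q} (ht : t.Prime) (htF : (t : F) ≠ 0) (hz : z ^ t = 1)
    (hd : rk (rU n F q) z = eU q t) :
    ∃ w : AlgebraicClosure F, IsOrd t w ∧ w ≠ 0 ∧ Ev z w ∧ ∀ μ, μ ≠ 1 → Ev z μ → ∃ k < eU q t, μ = w ^ ((-(q : ℤ)) ^ k) := by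
  have htf := Fact.mk ht
  have htK : (t : AlgebraicClosure F) ≠ 0 := by
    intro h
    apply htF
    apply (algebraMap F (AlgebraicClosure F)).injective
    rw [map_natCast, map_zero, h]
  have hdpos : 0 < eU q t := H556.HallOrd.order_pos ht (q_ne hF ht htF)
  have hz1 : Mg z ≠ 1 := by
    intro h
    have h1 := rank_Mg z
    rw [h, sub_self, Matrix.rank_zero] at h1
    omega
  obtain ⟨w, hw1, hwt, e, he, hew⟩ := exists_eig_ne_one htK (by rw [← Mg_pow, hz, Mg_one]) hz1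
  have hw : IsOrd t w := isOrd_of ht hw1 hwt
  have hev : Ev z w := ⟨e, he, hew⟩
  have hw0 : w ≠ 0 := eig_ne_zero he hew
  refine ⟨w, hw, hw0, hev, fun μ hμ1 hμ => ?_⟩
  by_contra hcon
  push Not at hcon
  let ν : Option (Fin (eU q t)) → AlgebraicClosure F := fun o => o.elim μ fun k => w ^ ((-(q : ℤ)) ^ (k : ℕ))
  have hν : Function.Injective ν := by
    rintro (_ | i) (_ | j) hij
    · rfl
    · exact absurd hij (hcon j j.2)
    · exact absurd hij.symm (hcon i i.2)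
    · have h1 := (zpow_inj_mod hw hw0).mp hij
      push_cast at h1
      have h2 := pow_injOn_Iio_orderOf (Set.mem_Iio.mpr i.2) (Set.mem_Iio.mpr j.2) h1
      rw [Fin.ext h2]
  have h1 : ∀ o, ν o ≠ 1 := by
    rintro (_ | i)
    · exact hμ1
    · intro h
      have h2 := (hw _).mp h
      have h3 : (((-(q : ℤ)) ^ (i : ℕ) : ℤ) : ZMod t) = 0 := by rwa [ZMod.intCast_zmod_eq_zero_iff_dvd]
      push_cast at h3
      exact pow_ne_zero _ (q_ne hF ht htF) h3
  have h2 : ∀ o, Ev z (ν o) := by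
    rintro (_ | i)
    · exact hμ
    · exact ev_iter hF hev _
  have h3 := card_le_rk hν h1 h2
  rw [Fintype.card_option, Fintype.card_fin, hd] at h3
  omega

end Cfsg.Agent.H735.DPU
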